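import Groth.Agent.L27.NormalSepClosed.FEt
import Groth.Agent.L27.SGA1.FEtFaithful

/-! Full faithfulness of restriction when clopens of covers extend uniquely. -/

set_option autoImplicit false
set_option linter.style.haveILetI false
set_option backward.isDefEq.respectTransparency.types false

universe u

open CategoryTheory CategoryTheory.Limits AlgebraicGeometry TopologicalSpace

namespace Groth.L27.HomotopySeq

variable {X Y : Scheme.{u}} (f : Y ⟶ X)

/-- clopens of the restriction of a cover come from the cover -/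
def ClopensExtend : Prop :=
  ∀ (Z : Scheme.{u}) (z : Z ⟶ X) [Etale z] [IsFinite z] (C : Set ↥(pullback z f)), IsClopen C →
    ∃ G : Set Z, IsClopen G ∧ pullback.fst z f ⁻¹' G = C

theorem faithful_restrict_of_meets (hmeet : Groth.L27.NormalSepClosed.MeetsClopens f) :
    (FEt.restrict f).Faithful :=
  Groth.L00.FEtFaithful.faithful_restrict f fun V O hO hne => by
    haveI : Etale V.hom := V.prop.2
    haveI : IsFinite V.hom := V.prop.1
    obtain ⟨c, hc, h⟩ := hmeet V.left V.hom O hO hne
    exact ⟨_, ⟨c, hc, rfl⟩, h⟩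

theorem full_restrict_of_clopens (hmeet : Groth.L27.NormalSepClosed.MeetsClopens f) (hclop : ClopensExtend f) :
    (FEt.restrict f).Full := by
  refine ⟨fun {V W} φ => ?_⟩
  haveI : Etale V.hom := V.prop.2
  haveI : IsFinite V.hom := V.prop.1
  haveI : Etale W.hom := W.prop.2
  haveI : IsFinite W.hom := W.prop.1
  let T := pullback V.hom W.hom
  let pr₁ : T ⟶ V.left := pullback.fst V.hom W.hom
  let t : T ⟶ X := pr₁ ≫ V.hom
  haveI : Etale t := inferInstance
  haveI : IsFinite t := inferInstance
  let p : pullback t f ⟶ T := pullback.fst t f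
  let fV := pullback.fst V.hom f
  let qV : pullback t f ⟶ pullback V.hom f := pullback.lift (p ≫ pr₁) (pullback.snd t f)
    ((Category.assoc _ _ _).trans pullback.condition)
  have hφw : φ.left ≫ pullback.snd W.hom f = pullback.snd V.hom f := MorphismProperty.Over.w φ
  let γ₁ : pullback V.hom f ⟶ T := pullback.lift fV (φ.left ≫ pullback.fst W.hom f) (by
    refine (pullback.condition).trans ?_
    refine (congrArg (· ≫ f) hφw.symm).trans ?_
    refine (Category.assoc _ _ _).trans (Eq.trans ?_ (Category.assoc _ _ _).symm)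
    exact congrArg (φ.left ≫ ·) pullback.condition.symm)
  have hγ₁ : γ₁ ≫ t = pullback.snd V.hom f ≫ f := by
    rw [← Category.assoc, pullback.lift_fst]; exact pullback.condition
  let γ : pullback V.hom f ⟶ pullback t f := pullback.lift γ₁ (pullback.snd V.hom f) hγ₁
  have hγq : γ ≫ qV = 𝟙 _ := by
    apply pullback.hom_ext
    · rw [Category.assoc, pullback.lift_fst, ← Category.assoc, pullback.lift_fst, pullback.lift_fst,
        Category.id_comp]
    · rw [Category.assoc, pullback.lift_snd, pullback.lift_snd, Category.id_comp]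
  have sq : IsPullback p qV pr₁ fV := by
    refine IsPullback.of_bot (h₂₁ := fV) (v₂₁ := pullback.snd V.hom f) ?_ (pullback.lift_fst _ _ _).symm
      (IsPullback.of_hasPullback V.hom f)
    have : qV ≫ pullback.snd V.hom f = pullback.snd t f := pullback.lift_snd _ _ _
    rw [this]
    exact IsPullback.of_hasPullback t f
  haveI : Etale qV := MorphismProperty.of_isPullback (P := @Etale) sq inferInstance
  haveI : IsFinite qV := MorphismProperty.of_isPullback (P := @IsFinite) sq inferInstance
  haveI : IsClosedImmersion (γ ≫ qV) := hγq.symm ▸ inferInstance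
  haveI : IsClosedImmersion γ := IsClosedImmersion.of_comp γ qV
  haveI : Etale (γ ≫ qV) := hγq.symm ▸ inferInstance
  haveI : Etale γ := Etale.of_comp γ qV
  haveI : IsOpenImmersion γ := IsOpenImmersion.of_flat_of_mono γ
  obtain ⟨G₀, hG₀, hGC⟩ := hclop T t (Set.range γ)
    ⟨γ.isClosedEmbedding.isClosed_range, γ.isOpenEmbedding.isOpen_range⟩
  let G : T.Opens := ⟨G₀, hG₀.2⟩
  have hGc : IsClosed (G : Set T) := hG₀.1
  have hpG : p ⁻¹' (G : Set T) = Set.range γ := hGC
  haveI : IsClosedImmersion (Scheme.Opens.ι G) :=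
    IsClosedImmersion.of_isPreimmersion (Scheme.Opens.ι G) (by rw [Scheme.Opens.range_ι]; exact hGc)
  let b : (G : Scheme.{u}) ⟶ V.left := Scheme.Opens.ι G ≫ pr₁
  let O : (pullback t f : Scheme.{u}).Opens := p ⁻¹ᵁ G
  have sqb : IsPullback (p ∣_ G) (Scheme.Opens.ι O ≫ qV) b fV :=
    (isPullback_morphismRestrict p G).paste_vert sq
  have hr : Set.range γ = Set.range (Scheme.Opens.ι O) := by
    rw [Scheme.Opens.range_ι]; exact hpG.symm
  let γ' : pullback V.hom f ⟶ O := IsOpenImmersion.lift (Scheme.Opens.ι O) γ hr.subset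
  have hγ' : γ' ≫ Scheme.Opens.ι O = γ := IsOpenImmersion.lift_fac _ _ _
  haveI : IsIso (Scheme.Opens.ι O ≫ qV) := by
    haveI : IsOpenImmersion (γ' ≫ Scheme.Opens.ι O) := hγ'.symm ▸ inferInstance
    haveI : IsOpenImmersion γ' := IsOpenImmersion.of_comp γ' (Scheme.Opens.ι O)
    haveI : IsIso γ' := by
      haveI : Epi γ'.base := (TopCat.epi_iff_surjective _).2 fun o => by
        obtain ⟨a, ha⟩ := hr.symm.subset ⟨o, rfl⟩
        exact ⟨a, (Scheme.Opens.ι O).isEmbedding.injective
          ((Scheme.Hom.comp_apply _ _ _).symm.trans ((congr($hγ' a)).trans ha))⟩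
      exact IsOpenImmersion.isIso γ'
    have h : γ' ≫ (Scheme.Opens.ι O ≫ qV) = 𝟙 _ := by rw [← Category.assoc, hγ', hγq]
    have h2 : Scheme.Opens.ι O ≫ qV = inv γ' := by rw [← cancel_epi γ', h, IsIso.hom_inv_id]
    rw [h2]
    infer_instance
  haveI : IsIso (pullback.snd b fV) := by
    rw [← sqb.isoPullback_inv_snd]
    infer_instance
  haveI : IsIso b := Groth.L27.NormalSepClosed.isIso_of_restrict b fV fun Z z _ _ C hC hne => by
    obtain ⟨c, hc, y, hy⟩ := hmeet Z (z ≫ V.hom) C hC hne
    obtain ⟨w, hw, -⟩ := Scheme.Pullback.exists_preimage_pullback (f := V.hom) (g := f) (z c) y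
      (by rw [hy]; exact (Scheme.Hom.comp_apply _ _ _).symm)
    exact ⟨c, hc, w, hw⟩
  have hwb : (inv b ≫ Scheme.Opens.ι G ≫ pullback.snd V.hom W.hom) ≫ W.hom = V.hom := by
    rw [Category.assoc, Category.assoc, IsIso.inv_comp_eq]
    exact (congrArg (Scheme.Opens.ι G ≫ ·) pullback.condition.symm).trans (Category.assoc _ _ _).symm
  refine ⟨MorphismProperty.Over.homMk (inv b ≫ Scheme.Opens.ι G ≫ pullback.snd V.hom W.hom) hwb, ?_⟩
  have hl : γ' ≫ (p ∣_ G) ≫ Scheme.Opens.ι G = γ₁ := by
    rw [morphismRestrict_ι, ← Category.assoc, hγ', pullback.lift_fst]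
  have hlb : γ' ≫ (p ∣_ G) = fV ≫ inv b := by
    rw [IsIso.eq_comp_inv]
    show (γ' ≫ p ∣_ G) ≫ Scheme.Opens.ι G ≫ pr₁ = fV
    rw [← Category.assoc, Category.assoc γ', hl]
    exact pullback.lift_fst _ _ _
  refine MorphismProperty.Over.Hom.ext (pullback.hom_ext ?_ ?_)
  · refine (pullback.lift_fst _ _ _).trans ?_
    show fV ≫ inv b ≫ Scheme.Opens.ι G ≫ pullback.snd V.hom W.hom = _
    rw [← Category.assoc fV (inv b), ← hlb, Category.assoc, ← Category.assoc (p ∣_ G),
      ← Category.assoc γ', hl]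
    exact pullback.lift_snd _ _ _
  · exact (pullback.lift_snd _ _ _).trans hφw.symm

end Groth.L27.HomotopySeq
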