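import Groth.Agent.S3701
import Groth.Agent.S0388
import Groth.Agent.L23.SourceReduced
import Groth.Agent.L27.NormalSepClosed.FEt
import Groth.Agent.L27.SGA1.ConnectedFibres
import Mathlib.AlgebraicGeometry.Geometrically.Connected
import Mathlib.FieldTheory.IsAlgClosed.AlgebraicClosure
import Groth.Prelude.Def_FEt

/-! Exactness of the homotopy sequence through the Stein factorization. -/

set_option autoImplicit false
set_option linter.style.haveILetI false
set_option backward.isDefEq.respectTransparency.types false

universe u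

open CategoryTheory CategoryTheory.Limits AlgebraicGeometry

namespace Groth.L27.HomotopySeq

variable {X S : Scheme.{u}}

/-- connected geometric fibres give geometric connectedness -/
theorem geometricallyConnected_of_geomFibres (f : X ⟶ S)
    (h : ∀ (Ω : Type u) [Field Ω] [IsAlgClosed Ω] (s : Spec (CommRingCat.of Ω) ⟶ S), ConnectedSpace ↥(pullback f s)) :
    GeometricallyConnected f := by
  refine ⟨fun K _ y X' fst snd hsq => ?_⟩
  let Ω := AlgebraicClosure K
  let t : Spec (CommRingCat.of Ω) ⟶ Spec (CommRingCat.of K) := Spec.map (CommRingCat.ofHom (algebraMap K Ω))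
  haveI : Surjective t := ⟨fun z => ⟨default, Subsingleton.elim (α := Spec (CommRingCat.of K)) _ _⟩⟩
  haveI := h Ω (t ≫ y)
  let e := ((IsPullback.of_hasPullback snd t).paste_horiz hsq).isoPullback
  haveI : ConnectedSpace ↥(pullback snd t) :=
    e.inv.homeomorph.surjective.connectedSpace e.inv.homeomorph.continuous
  exact (pullback.fst snd t).surjective.connectedSpace (pullback.fst snd t).continuous

/-- finite etale covers of a scheme with reduced geometric fibres have reduced geometric fibres -/
theorem isReduced_fibre (f : X ⟶ S) {Y : Scheme.{u}} (p : Y ⟶ X) [Etale p] {T : Scheme.{u}} (s : T ⟶ S)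
    [IsReduced (pullback f s)] : IsReduced (pullback (p ≫ f) s) := by
  let m : pullback (p ≫ f) s ⟶ pullback f s := pullback.lift (pullback.fst _ _ ≫ p) (pullback.snd _ _)
    (by rw [Category.assoc]; exact pullback.condition)
  have sq : IsPullback (pullback.fst (p ≫ f) s) m p (pullback.fst f s) :=
    IsPullback.of_bot (by rw [show m ≫ pullback.snd f s = _ from pullback.lift_snd _ _ _]
                          exact IsPullback.of_hasPullback (p ≫ f) s)
      (pullback.lift_fst _ _ _).symm (IsPullback.of_hasPullback f s)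
  haveI : Etale m := MorphismProperty.of_isPullback (P := @Etale) sq inferInstance
  exact Groth.L23.isReduced_of_etale m

/-- a map from a connected scheme to an etale scheme over an algebraically closed point is constant -/
theorem exists_const {Ω : Type u} [Field Ω] [IsAlgClosed Ω] {Z E : Scheme.{u}} [ConnectedSpace Z]
    (π : E ⟶ Spec (CommRingCat.of Ω)) [Etale π] (k : Z ⟶ E) :
    ∃ a : Spec (CommRingCat.of Ω) ⟶ E, a ≫ π = 𝟙 _ ∧ k = (k ≫ π) ≫ a := by
  have hsec : ∀ e : E, ∃ a : Spec (CommRingCat.of Ω) ⟶ E, a ≫ π = 𝟙 _ ∧ a default = e := fun e => by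
    obtain ⟨y, hy⟩ := L27.EtSite.exists_fiber (𝟙 (Spec (CommRingCat.of Ω))) (Scheme.Etale.mk π) e
      (Subsingleton.elim (α := Spec (CommRingCat.of Ω)) _ _)
    exact ⟨y.left, Over.w y, hy⟩
  have hdisc : DiscreteTopology E := discreteTopology_iff_isOpen_singleton.2 fun e => by
    obtain ⟨a, ha, hae⟩ := hsec e
    haveI := L27.TopInv.isOpenImmersion_section π a ha
    have : Set.range a.base = {e} := by
      refine Set.eq_singleton_iff_unique_mem.2 ⟨⟨default, hae⟩, ?_⟩
      rintro _ ⟨t, rfl⟩
      exact (L27.SGA1Conn.field_base_eq a t).trans hae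
    exact this ▸ a.isOpenEmbedding.isOpen_range
  obtain ⟨z₀⟩ : Nonempty Z := inferInstance
  obtain ⟨a, ha, hae⟩ := hsec (k z₀)
  haveI := L27.TopInv.isOpenImmersion_section π a ha
  have hr : Set.range k ⊆ Set.range a := by
    rintro _ ⟨z, rfl⟩
    exact ⟨default, hae.trans (PreconnectedSpace.constant inferInstance k.continuous)⟩
  refine ⟨a, ha, ?_⟩
  have hl : IsOpenImmersion.lift a k hr ≫ a = k := IsOpenImmersion.lift_fac _ _ _
  conv_lhs => rw [← hl]
  congr 1
  conv_rhs => rw [← hl, Category.assoc, ha, Category.comp_id]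

/-- a connected cover with a section over one geometric fibre comes from the base -/
theorem exists_descent (f : X ⟶ S) [IsProper f] [Flat f] [LocallyOfFinitePresentation f] [ConnectedSpace S]
    (hfib : ∀ (Ω : Type u) [Field Ω] [IsAlgClosed Ω] (s : Spec (CommRingCat.of Ω) ⟶ S),
      ConnectedSpace ↥(pullback f s) ∧ IsReduced (pullback f s))
    (Y : FEt.Cat X) [ConnectedSpace Y.left] (Ω : Type u) [Field Ω] [IsAlgClosed Ω]
    (s : Spec (CommRingCat.of Ω) ⟶ S) (σ : pullback f s ⟶ Y.left) (hσ : σ ≫ Y.hom = pullback.fst f s) :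
    (FEt.restrict f).essImage Y := by
  haveI : IsFinite Y.hom := Y.prop.1
  haveI : Etale Y.hom := Y.prop.2
  haveI : ConnectedSpace ↥((𝟭 Scheme).obj Y.left) := ‹ConnectedSpace Y.left›
  haveI : GeometricallyConnected f := geometricallyConnected_of_geomFibres f fun Ω _ _ s => (hfib Ω s).1
  let fY := Y.hom ≫ f
  obtain ⟨hfin, het⟩ := Groth.Agent.S3701.result fY fun Ω _ _ t =>
    haveI := (hfib Ω t).2
    isReduced_fibre f Y.hom t
  haveI := (Groth.Agent.S0388.result fY).1
  let g := fY.toNormalization
  let h := fY.fromNormalization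
  haveI : IsFinite h := hfin
  haveI : Etale h := het
  have hgh : g ≫ h = fY := fY.toNormalization_fromNormalization
  haveI : ConnectedSpace ↥fY.normalization := g.surjective.connectedSpace g.continuous
  let W : FEt.Cat S := MorphismProperty.Over.mk ⊤ h ⟨hfin, het⟩
  let q := pullback.fst h f
  let θ : Y.left ⟶ pullback h f := pullback.lift g Y.hom hgh
  have hθ : θ ≫ pullback.snd h f = Y.hom := pullback.lift_snd _ _ _
  haveI : Etale (θ ≫ pullback.snd h f) := hθ.symm ▸ inferInstance
  haveI : IsFinite (θ ≫ pullback.snd h f) := hθ.symm ▸ inferInstance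
  haveI : Etale θ := Etale.of_comp θ (pullback.snd h f)
  haveI : IsFinite θ := IsFinite.of_comp θ (pullback.snd h f)
  haveI : ConnectedSpace ↥(pullback h f) := inferInstance
  -- the geometric point of the Stein factorization under the section
  haveI := (hfib Ω s).1
  let k : pullback f s ⟶ pullback h s := pullback.lift (σ ≫ g) (pullback.snd f s) (by
    rw [Category.assoc, hgh, ← Category.assoc, hσ]; exact pullback.condition)
  obtain ⟨a, ha, hka⟩ := exists_const (pullback.snd h s) k
  let s' := a ≫ pullback.fst h s
  have hs' : s' ≫ h = s := by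
    rw [Category.assoc, pullback.condition, ← Category.assoc, ha, Category.id_comp]
  have hσg : σ ≫ g = pullback.snd f s ≫ s' := by
    have := congrArg (· ≫ pullback.fst h s) hka
    simpa only [k, Category.assoc, pullback.lift_fst, pullback.lift_snd_assoc] using this
  let j : pullback f s ⟶ pullback h f := pullback.lift (pullback.snd f s ≫ s') (pullback.fst f s) (by
    rw [Category.assoc, hs']; exact pullback.condition.symm)
  have sqj : IsPullback j (pullback.snd f s) q s' :=
    IsPullback.of_right (by rw [show j ≫ pullback.snd h f = _ from pullback.lift_snd _ _ _, hs']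
                            exact IsPullback.of_hasPullback f s)
      (pullback.lift_fst _ _ _) (IsPullback.of_hasPullback h f).flip
  have sqP : IsPullback (pullback.fst θ j) (pullback.snd θ j ≫ pullback.snd f s) g s' := by
    have := (IsPullback.of_hasPullback θ j).paste_vert sqj
    rwa [show θ ≫ q = g from pullback.lift_fst _ _ _] at this
  haveI : ConnectedSpace ↥(pullback θ j) := GeometricallyConnected.geometrically_connectedSpace _ _ _ sqP
  let sec : pullback f s ⟶ pullback θ j := pullback.lift σ (𝟙 _) (by
    rw [Category.id_comp]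
    apply pullback.hom_ext
    · rw [Category.assoc, pullback.lift_fst, pullback.lift_fst]; exact hσg
    · rw [Category.assoc, pullback.lift_snd, pullback.lift_snd, hσ])
  have hsec : sec ≫ pullback.snd θ j = 𝟙 _ := pullback.lift_snd _ _ _
  haveI := L27.TopInv.isOpenImmersion_section (pullback.snd θ j) sec hsec
  haveI : IsClosedImmersion (sec ≫ pullback.snd θ j) := hsec.symm ▸ inferInstance
  haveI : IsClosedImmersion sec := IsClosedImmersion.of_comp sec (pullback.snd θ j)
  obtain ⟨z₀⟩ : Nonempty ↥(pullback f s) := inferInstance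
  haveI : IsIso sec := by
    haveI : Epi sec.base := (TopCat.epi_iff_surjective _).2 (Set.range_eq_univ.1
      (IsClopen.eq_univ ⟨sec.isClosedEmbedding.isClosed_range, sec.isOpenEmbedding.isOpen_range⟩ ⟨_, z₀, rfl⟩))
    exact IsOpenImmersion.isIso sec
  haveI : IsIso (pullback.snd θ j) := IsIso.of_isIso_fac_left hsec
  have hiso : IsIso θ := Groth.L27.NormalSepClosed.isIso_of_restrict θ j fun Z z _ _ C hC hne => by
    have himg : z '' C = Set.univ :=
      IsClopen.eq_univ ⟨z.isClosedMap _ hC.1, z.isOpenMap _ hC.2⟩ (hne.image _)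
    obtain ⟨c, hc, hcz⟩ : j z₀ ∈ z '' C := himg ▸ Set.mem_univ _
    exact ⟨c, hc, z₀, hcz.symm⟩
  exact ⟨W, ⟨(MorphismProperty.Over.isoMk (A := Y) (B := (FEt.restrict f).obj W) (@asIso _ _ _ _ θ hiso) hθ).symm⟩⟩

end Groth.L27.HomotopySeq
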