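import Groth.Agent.L27.HomotopySeq.Basic
import Groth.Agent.L27.HomotopySeq.Full
import Groth.Agent.L27.EtSite.StrictLocal

/-! Covers of a proper flat family over a strictly henselian base, restricted to a geometric fibre. -/

set_option autoImplicit false
set_option linter.style.haveILetI false
set_option backward.isDefEq.respectTransparency.types false

universe u

open CategoryTheory CategoryTheory.Limits AlgebraicGeometry

namespace Groth.L27.HomotopySeq

variable {A : Type u} [CommRing A] [HenselianLocalRing A] [IsSepClosed (IsLocalRing.ResidueField A)]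

omit [IsSepClosed (IsLocalRing.ResidueField A)] in
instance connected_spec : ConnectedSpace ↥(Spec (CommRingCat.of A)) where
  toNonempty := ⟨IsLocalRing.closedPoint A⟩
  toPreconnectedSpace := by
    refine preconnectedSpace_iff_clopen.2 fun U hU => ?_
    by_cases h : IsLocalRing.closedPoint A ∈ U
    · exact Or.inr (Set.eq_univ_of_forall fun z => (IsLocalRing.specializes_closedPoint z).mem_open hU.2 h)
    · exact Or.inl (Set.eq_empty_of_forall_notMem fun z hz => h ((IsLocalRing.specializes_closedPoint z).mem_closed hU.1 hz))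

/-- a section through every point of a finite etale cover of a strictly henselian scheme -/
theorem exists_section_through {W : Scheme.{u}} (h : W ⟶ Spec (CommRingCat.of A)) [IsFinite h] [Etale h] (w : W) :
    ∃ s : Spec (CommRingCat.of A) ⟶ W, s ≫ h = 𝟙 _ ∧ w ∈ Set.range s := by
  obtain ⟨w₀, hw₀, hmax⟩ : ∃ w₀ : W, w ⤳ w₀ ∧ IsClosed ({w₀} : Set W) := by
    haveI : CompactSpace W := QuasiCompact.compactSpace_of_compactSpace h
    obtain ⟨w₀, hw₀, hcl⟩ := (isClosed_closure (s := ({w} : Set W))).exists_closed_singleton ⟨w, subset_closure rfl⟩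
    exact ⟨w₀, specializes_iff_mem_closure.2 hw₀, hcl⟩
  have hc : IsClosed ({h w₀} : Set (Spec (CommRingCat.of A))) := by
    rw [← Set.image_singleton]; exact h.isClosedMap _ hmax
  let κ := IsLocalRing.ResidueField A
  have hpt : h w₀ = L27.EtSite.closedPt A default := by
    have e : ∀ z : Spec (CommRingCat.of A), IsClosed ({z} : Set _) → z = IsLocalRing.closedPoint A := fun z hz =>
      ((IsLocalRing.specializes_closedPoint z).mem_closed hz rfl).symm
    rw [e _ hc]
    exact (IsLocalRing.comap_closedPoint (IsLocalRing.residue A) ▸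
      congrArg (Spec.map (CommRingCat.ofHom (IsLocalRing.residue A))) (Subsingleton.elim (α := Spec (CommRingCat.of κ)) (IsLocalRing.closedPoint κ) default))
  haveI : IsSepClosed κ := ‹_›
  obtain ⟨y, hy⟩ := L27.EtSite.exists_fiber (L27.EtSite.closedPt A) (Scheme.Etale.mk h) w₀ hpt
  obtain ⟨σ, hσ⟩ := L27.EtSite.exists_section A (Scheme.Etale.mk h) y
  let s : Spec (CommRingCat.of A) ⟶ W := σ.left
  have hs : s ≫ h = 𝟙 _ := MorphismProperty.Over.w σ
  haveI := L27.TopInv.isOpenImmersion_section h s hs
  refine ⟨s, hs, hw₀.mem_open s.isOpenEmbedding.isOpen_range ?_⟩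
  have h1 : L27.EtSite.closedPt A ≫ s = y.left := congrArg CommaMorphism.left hσ
  exact ⟨L27.EtSite.closedPt A default, by rw [← Scheme.Hom.comp_apply, h1]; exact hy⟩

/-- clopens of a geometric fibre of a finite etale cover extend -/
theorem exists_clopen_of_geomPoint {W : Scheme.{u}} (h : W ⟶ Spec (CommRingCat.of A)) [IsFinite h] [Etale h]
    {Ω : Type u} [Field Ω] (t : Spec (CommRingCat.of Ω) ⟶ Spec (CommRingCat.of A))
    (C : Set ↥(pullback h t)) : ∃ G : Set W, IsClopen G ∧ pullback.fst h t ⁻¹' G = C := by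
  let pt : ∀ (s : Spec (CommRingCat.of A) ⟶ W), s ≫ h = 𝟙 _ → ↥(pullback h t) := fun s hs =>
    pullback.lift (t ≫ s) (𝟙 _) (by rw [Category.assoc, hs, Category.comp_id, Category.id_comp]) default
  have huniq : ∀ (s : Spec (CommRingCat.of A) ⟶ W) (hs : s ≫ h = 𝟙 _) (z : ↥(pullback h t)),
      pullback.fst h t z ∈ Set.range s → z = pt s hs := fun s hs z ⟨a, ha⟩ => by
    obtain ⟨z', hz', -⟩ := Scheme.Pullback.exists_preimage_pullback (f := pullback.fst h t) (g := s) z a ha.symm
    let q := pullback.fst (pullback.fst h t) s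
    let m := q ≫ pullback.snd h t
    have hm : pullback.snd (pullback.fst h t) s = m ≫ t := by
      show _ = (q ≫ pullback.snd h t) ≫ t
      rw [Category.assoc, ← pullback.condition, ← Category.assoc, pullback.condition, Category.assoc, hs,
        Category.comp_id]
    have hq : q = m ≫ pullback.lift (t ≫ s) (𝟙 _) (by rw [Category.assoc, hs, Category.comp_id, Category.id_comp]) := by
      apply pullback.hom_ext
      · rw [Category.assoc, pullback.lift_fst, ← Category.assoc, ← hm]; exact pullback.condition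
      · rw [Category.assoc, pullback.lift_snd, Category.comp_id]
    rw [← hz', show q z' = _ from congrArg (fun (k : _ ⟶ pullback h t) => k z') hq, Scheme.Hom.comp_apply]
    exact congrArg _ (Subsingleton.elim (α := Spec (CommRingCat.of Ω)) _ _)
  have hclop : ∀ (s : Spec (CommRingCat.of A) ⟶ W), s ≫ h = 𝟙 _ → IsClopen (Set.range s) := fun s hs => by
    haveI := L27.TopInv.isOpenImmersion_section h s hs
    haveI : IsClosedImmersion (s ≫ h) := hs.symm ▸ inferInstance
    haveI : IsClosedImmersion s := IsClosedImmersion.of_comp s h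
    exact ⟨s.isClosedEmbedding.isClosed_range, s.isOpenEmbedding.isOpen_range⟩
  have heq : ∀ (s s' : Spec (CommRingCat.of A) ⟶ W) (hs : s ≫ h = 𝟙 _) (hs' : s' ≫ h = 𝟙 _) (w : W),
      w ∈ Set.range s → w ∈ Set.range s' → pt s hs = pt s' hs' := fun s s' hs hs' w hw hw' => by
    refine huniq s' hs' _ ?_
    have hsub : Set.range s ⊆ Set.range s' :=
      (isPreconnected_range s.continuous).subset_isClopen (hclop s' hs') ⟨w, hw, hw'⟩
    refine hsub ⟨t default, ?_⟩
    exact (Scheme.Hom.comp_apply _ _ _).symm.trans ((congrArg (fun (k : _ ⟶ W) => k default)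
      (pullback.lift_fst _ _ _).symm).trans (Scheme.Hom.comp_apply _ _ _))
  let G : Set W := {w | ∃ (s : Spec (CommRingCat.of A) ⟶ W) (hs : s ≫ h = 𝟙 _), w ∈ Set.range s ∧ pt s hs ∈ C}
  refine ⟨G, ⟨?_, ?_⟩, ?_⟩
  · refine ⟨isOpen_iff_forall_mem_open.2 fun w hw => ?_⟩
    obtain ⟨s, hs, hws⟩ := exists_section_through h w
    refine ⟨Set.range s, fun w' hw' ⟨s', hs', hw's, hC⟩ => hw ⟨s, hs, hws, ?_⟩, (hclop s hs).2, hws⟩
    rwa [heq s s' hs hs' w' hw' hw's]
  · refine isOpen_iff_forall_mem_open.2 fun w ⟨s, hs, hws, hC⟩ =>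
      ⟨Set.range s, fun w' hw' => ⟨s, hs, hw', hC⟩, (hclop s hs).2, hws⟩
  · ext z
    refine ⟨fun ⟨s, hs, hzs, hC⟩ => by rwa [huniq s hs z hzs], fun hz => ?_⟩
    obtain ⟨s, hs, hws⟩ := exists_section_through h (pullback.fst h t z)
    exact ⟨s, hs, hws, by rwa [← huniq s hs z hws]⟩

variable {X : Scheme.{u}} (f : X ⟶ Spec (CommRingCat.of A))

theorem meetsClopens_geomFibre [IsProper f] [Flat f] [LocallyOfFinitePresentation f] {Ω : Type u} [Field Ω]
    (t : Spec (CommRingCat.of Ω) ⟶ Spec (CommRingCat.of A)) :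
    Groth.L27.NormalSepClosed.MeetsClopens (pullback.fst f t) := by
  intro Z z _ _ C hC hne
  have himg : (z ≫ f) '' C = Set.univ :=
    IsClopen.eq_univ ⟨(z ≫ f).isClosedMap _ hC.1, (z ≫ f).isOpenMap _ hC.2⟩ (hne.image _)
  obtain ⟨c, hc, hcz⟩ : t default ∈ (z ≫ f) '' C := himg ▸ Set.mem_univ _
  refine ⟨c, hc, ?_⟩
  rw [Scheme.Pullback.range_fst]
  exact ⟨default, hcz.symm.trans (Scheme.Hom.comp_apply _ _ _)⟩

theorem clopensExtend_geomFibre [IsProper f] [Flat f] [LocallyOfFinitePresentation f]
    (hfib : ∀ (Ω : Type u) [Field Ω] [IsAlgClosed Ω] (s : Spec (CommRingCat.of Ω) ⟶ Spec (CommRingCat.of A)),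
      IsReduced (pullback f s))
    {Ω : Type u} [Field Ω] [IsAlgClosed Ω] (t : Spec (CommRingCat.of Ω) ⟶ Spec (CommRingCat.of A)) :
    ClopensExtend (pullback.fst f t) := by
  intro Z z _ _ C hC
  let fY := z ≫ f
  obtain ⟨hfin, het⟩ := Groth.Agent.S3701.result fY fun Ω _ _ s =>
    haveI := hfib Ω s
    isReduced_fibre f z s
  haveI := (Groth.Agent.S0388.result fY).1
  haveI : IsFinite fY.fromNormalization := hfin
  haveI : Etale fY.fromNormalization := het
  let h := fY.fromNormalization
  let g := fY.toNormalization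
  have hgh : g ≫ h = fY := fY.toNormalization_fromNormalization
  let P := pullback z (pullback.fst f t)
  let q : P ⟶ pullback h t := pullback.lift (pullback.fst _ _ ≫ g) (pullback.snd _ _ ≫ pullback.snd f t) (by
    rw [Category.assoc, hgh, Category.assoc, ← pullback.condition]
    exact (Category.assoc _ _ _).symm.trans ((congrArg (· ≫ f) pullback.condition).trans (Category.assoc _ _ _)))
  have sq : IsPullback (pullback.fst z (pullback.fst f t)) q g (pullback.fst h t) :=
    IsPullback.of_bot (by rw [show q ≫ pullback.snd h t = _ from pullback.lift_snd _ _ _, hgh]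
                          exact (IsPullback.of_hasPullback z (pullback.fst f t)).paste_vert (IsPullback.of_hasPullback f t))
      (pullback.lift_fst _ _ _).symm (IsPullback.of_hasPullback h t)
  haveI : GeometricallyConnected q := MorphismProperty.of_isPullback (P := @GeometricallyConnected) sq inferInstance
  obtain ⟨G₀, hG₀, hG₀C⟩ := exists_clopen_of_geomPoint h t (q '' C)
  refine ⟨g ⁻¹' G₀, hG₀.preimage g.continuous, ?_⟩
  refine Set.Subset.antisymm (fun p hp => ?_) (fun p hp => ?_)
  · have hq : q p ∈ q '' C := by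
      rw [← hG₀C]
      show pullback.fst h t (q p) ∈ G₀
      rwa [← Scheme.Hom.comp_apply, pullback.lift_fst, Scheme.Hom.comp_apply]
    obtain ⟨p', hp', hpp⟩ := hq
    exact (q.isConnected_preimage_singleton (q p)).isPreconnected.subset_isClopen hC
      ⟨p', hpp, hp'⟩ rfl
  · show g (pullback.fst z (pullback.fst f t) p) ∈ G₀
    have hq : q p ∈ pullback.fst h t ⁻¹' G₀ := hG₀C.symm ▸ ⟨p, hp, rfl⟩
    rw [← Scheme.Hom.comp_apply, sq.w, Scheme.Hom.comp_apply]
    exact hq

end Groth.L27.HomotopySeq
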